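import Groth.Prelude.Def_AlgSpInf
import Groth.Prelude.Def_AlgSp4
import Groth.Agent.H12AlgSp.FppfQuot
import Groth.Agent.H12AlgSp.EffectiveRep
import Groth.Agent.H13Desc.Eff.Lqf
import Groth.Agent.S10584

/-!
An fppf equivalence relation has a scheme quotient if its restriction to a saturated thickened
closed subscheme has one.
-/

set_option backward.isDefEq.respectTransparency false

universe u

open CategoryTheory CategoryTheory.Limits AlgebraicGeometry
open AlgSp Groth.Agent.H13AlgSp Groth.Agent.H12AlgSp Groth.Agent.H13Desc.Eff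

namespace Groth.Agent.H02CA.QuotThick

theorem descends_fppf (P : MorphismProperty Scheme.{u}) [IsZariskiLocalAtTarget P]
    [P.DescendsAlong (@Surjective ⊓ @Flat ⊓ @QuasiCompact : MorphismProperty Scheme.{u})] :
    P.DescendsAlong fppfMor.{u} := by
  constructor
  intro A X Y Z fst snd f g h ⟨⟨hs, hf⟩, hp⟩ hfst
  have : Surjective f := hs
  have : Flat f := hf
  have : LocallyOfFinitePresentation f := hp
  exact IsCover.descend f P h hfst

theorem descends_surjective : MorphismProperty.DescendsAlong (@Surjective : MorphismProperty Scheme.{u}) fppfMor.{u} := by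
  constructor
  intro A X Y Z fst snd f g h ⟨⟨hs, _⟩, _⟩ hfst
  have : Surjective f := hs
  have : Surjective fst := hfst
  have : Surjective (snd ≫ g) := h.w ▸ (inferInstanceAs (Surjective (fst ≫ f)))
  exact Surjective.of_comp snd g

theorem closedImmersion_effective ⦃X' S' : Scheme.{u}⦄ (p : X' ⟶ S') (_ : Surjective p) (_ : Flat p)
    (_ : LocallyOfFinitePresentation p) (D : Desc.SchDD p) (hD : IsClosedImmersion D.obj.hom) :
    (Desc.toDD p).essImage D := by
  have : IsClosedImmersion D.obj.hom := hD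
  obtain ⟨Z, ⟨e⟩⟩ := isEffective_lqf p D
  exact ⟨Z, ⟨e⟩⟩

variable {S : Scheme.{u}} {R U : Over S} {s t : R ⟶ U}

theorem exists_quotient_of_saturated_thickening (h : IsEqvRel s t) [Flat s.left]
    [LocallyOfFinitePresentation s.left] {U₀ Y₀ R₀ : Over S} (c₀ : U₀ ⟶ U) [IsClosedImmersion c₀.left]
    [Surjective c₀.left] (p₀ : U₀ ⟶ Y₀) [Surjective p₀.left] [Flat p₀.left]
    [LocallyOfFinitePresentation p₀.left] (a : R₀ ⟶ R) (l r : R₀ ⟶ U₀)
    (hs : IsPullback a r s c₀) (ht : a ≫ t = l ≫ c₀) (h₀ : IsPullback l r p₀ p₀) :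
    ∃ (Y : Over S) (p : U ⟶ Y), fppfMor p.left ∧ IsPullback t.left s.left p.left p.left := by
  let y := yon S
  obtain ⟨sq, hqe⟩ := isPullback_quotMap h
  have hq := repWith_fppf_quotMap h
  -- the closed subspace
  have hp₀ : RepWith fppfMor (y.map p₀) := (repWith_yon_map_iff _ p₀).2 ⟨⟨‹_›, ‹_›⟩, ‹_›⟩
  have := epi_of_repWith_fppf hp₀
  have : IsRegularEpi (y.map p₀) := IsRegularEpiCategory.regularEpiOfEpi _
  let hcol := IsKernelPair.toCoequalizer' (h₀.map y)
  let i : y.obj Y₀ ⟶ QuotSh.quot Scheme.fppfPrecoverage s t :=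
    Cofork.IsColimit.desc hcol (y.map c₀ ≫ quotMap s t) (by
      simp only [← Category.assoc, ← Functor.map_comp, ← hs.w, ← ht]
      simp only [Functor.map_comp, Category.assoc]
      exact congrArg (y.map a ≫ ·) sq.w)
  have hi : y.map p₀ ≫ i = y.map c₀ ≫ quotMap s t := Cofork.IsColimit.π_desc' hcol _ _
  -- the restriction of the quotient map
  obtain ⟨V, b, v', sqV⟩ := hq.rep i
  obtain ⟨v, rfl⟩ := y.map_surjective v'
  obtain ⟨γ', hγ₁, hγ₂⟩ := sqV.exists_lift (y.map c₀) (y.map p₀) hi.symm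
  obtain ⟨γ, rfl⟩ := y.map_surjective γ'
  rw [← Functor.map_comp] at hγ₁ hγ₂
  have hγv : γ ≫ v = c₀ := y.map_injective hγ₁
  have hγb : γ ≫ b = p₀ := y.map_injective hγ₂
  have hm : IsPullback (l ≫ γ) r b p₀ := IsPullback.of_map_of_faithful y (IsPullback.of_right
    (by
      have := (hs.map y).paste_horiz sq
      rw [← hi, ← Functor.map_comp, ht] at this
      rw [← Functor.map_comp, Category.assoc, hγv]
      exact this)
    (by rw [← Functor.map_comp, ← Functor.map_comp, Category.assoc, hγb, h₀.w]) sqV)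
  have hbot : IsPullback l (𝟙 R₀) γ (l ≫ γ) :=
    IsPullback.of_bot (by rw [Category.id_comp, hγb]; exact h₀) (Category.id_comp _).symm hm
  have hmf : fppfMor (l ≫ γ).left :=
    MorphismProperty.of_isPullback (hm.map (Over.forget S)).flip ⟨⟨‹_›, ‹_›⟩, ‹_›⟩
  have : IsIso γ.left := by
    have := descends_fppf (MorphismProperty.isomorphisms Scheme.{u})
    exact MorphismProperty.of_isPullback_of_descendsAlong (P := MorphismProperty.isomorphisms Scheme.{u})
      (Q := fppfMor.{u}) (hbot.map (Over.forget S)).flip hmf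
      (MorphismProperty.isomorphisms.infer_property (𝟙 R₀ : R₀ ⟶ R₀).left)
  have : IsIso γ := by
    have : IsIso ((Over.forget S).map γ) := ‹IsIso γ.left›
    exact isIso_of_reflects_iso γ (Over.forget S)
  have sqi : IsPullback (y.map c₀) (y.map p₀) (quotMap s t) i :=
    sqV.of_iso (y.mapIso (asIso γ).symm) (Iso.refl _) (Iso.refl _) (Iso.refl _)
      (by simp [y, ← Functor.map_comp, ← hγv]) (by simp [y, ← Functor.map_comp, ← hγb]) (by simp) (by simp)
  -- it is a thickening
  have := descends_fppf (@IsClosedImmersion : MorphismProperty Scheme.{u})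
  have := descends_surjective.{u}
  have hci : RepWith @IsClosedImmersion i :=
    repWith_of_effective_chart closedImmersion_effective hq sqi.flip ‹IsClosedImmersion c₀.left›
  have hsi : RepWith @Surjective i :=
    repWith_of_fppf_base hci.1 hq sqi.flip ((repWith_yon_map_iff _ c₀).2 ‹Surjective c₀.left›)
  have hthick : IsThickMor i := ⟨hci.1, fun T V g fst snd sqT => ⟨hci.2 g fst snd sqT, hsi.2 g fst snd sqT⟩⟩
  -- so the quotient is a scheme
  let Ys : AlgSp.Space S := ⟨y.obj Y₀, IsAlgSpace.yon_obj Y₀⟩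
  let Fs : AlgSp.Space S := ⟨_, isAlgSpace_quot_fppf h⟩
  obtain ⟨Y, ⟨e⟩⟩ := Groth.Agent.S10584.result (X := Ys) (X' := Fs) (ObjectProperty.homMk i) hthick
    ⟨Y₀, ⟨Iso.refl _⟩⟩
  obtain ⟨p, hp⟩ := y.map_surjective (quotMap s t ≫ e.inv)
  have hpf : RepWith fppfMor (y.map p) := by
    rw [hp]
    exact MorphismProperty.RespectsIso.postcomp (RepWith fppfMor.{u}) e.inv (quotMap s t) hq
  refine ⟨Y, p, (repWith_yon_map_iff _ p).1 hpf, ?_⟩
  refine (IsPullback.of_map_of_faithful y ?_).map (Over.forget S)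
  rw [hp]
  exact sq.of_iso (Iso.refl _) (Iso.refl _) (Iso.refl _) e.symm (by simp [y]) (by simp [y]) (by simp [Fs]) (by simp [Fs])

end Groth.Agent.H02CA.QuotThick
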